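import Groth.Prelude.Def_Dual3
import Groth.Prelude.Def_DRing2
import Groth.Agent.FlatBCD.Main
import Groth.Agent.TorBC.Canon
import Groth.Agent.TorBC.TorLocal
import Groth.Agent.DerPush.Basic
import Groth.Agent.DQCoh.Pullback
import Groth.Agent.S3527

/-!
Base change for the right adjoint of `Rf_*` on `D_QCoh`: `ξ` is invertible as soon as the base change map
`Lg^* Rf_* ⟶ Rf'_* Lg'^*` is.
-/

set_option autoImplicit false
set_option backward.isDefEq.respectTransparency false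
set_option linter.style.haveILetI false

universe u

open CategoryTheory CategoryTheory.Limits AlgebraicGeometry

attribute [local instance] HasDerivedCategory.standard

namespace Groth.Agent.Dual3XI

variable {X Y X' Y' : Scheme.{u}} {f : X ⟶ Y} {g : Y' ⟶ Y} {f' : X' ⟶ Y'} {g' : X' ⟶ X}
variable [DCoh.HasRpush f] [DCoh.HasRpush f'] [DCoh.HasRpush g] [DCoh.HasRpush g']
variable {hf : DCoh.RpushPreservesQCoh f} {hf' : DCoh.RpushPreservesQCoh f'}
variable {hg : DCoh.RpushPreservesQCoh g} {hg' : DCoh.RpushPreservesQCoh g'}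
variable {a : DCoh.DQCoh Y ⥤ DCoh.DQCoh X} {a' : DCoh.DQCoh Y' ⥤ DCoh.DQCoh X'}
variable [DCoh.HasLpull g] [DCoh.HasLpull g'] {hLg : Dual3.LpullPreservesQCoh g}
  {hLg' : Dual3.LpullPreservesQCoh g'}

/-- postcomposition with `ξ` is the composite of the adjunction bijections with `bcPush` -/
lemma comp_xi (adj : DCoh.RpushQ f hf ⊣ a) (adj' : DCoh.RpushQ f' hf' ⊣ a')
    (e : DCoh.RpushQ g' hg' ⋙ DCoh.RpushQ f hf ≅ DCoh.RpushQ f' hf' ⋙ DCoh.RpushQ g hg)
    (adjg : Dual3.LpullQ g hLg ⊣ DCoh.RpushQ g hg) (adjg' : Dual3.LpullQ g' hLg' ⊣ DCoh.RpushQ g' hg')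
    (M : DCoh.DQCoh Y') (T : DCoh.DQCoh X) (t : T ⟶ (DCoh.RpushQ g' hg').obj (a'.obj M)) :
    t ≫ Dual3.xi adj adj' e M =
      adj.homEquiv _ _ (adjg.homEquiv _ _ (Dual3.bcPush e adjg adjg' T ≫
        (adj'.homEquiv _ _).symm ((adjg'.homEquiv _ _).symm t))) := by
  obtain ⟨τ, rfl⟩ := (adjg'.homEquiv _ _).surjective t
  rw [Equiv.symm_apply_apply, Adjunction.homEquiv_counit adj', Dual3.xi,
    ← adj.homEquiv_naturality_left, Adjunction.homEquiv_naturality_right adjg, Dual3.bcPush,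
    Equiv.apply_symm_apply, Adjunction.homEquiv_unit adjg']
  congr 1
  rw [Functor.map_comp (DCoh.RpushQ f hf), Functor.map_comp (DCoh.RpushQ g hg), Category.assoc,
    Category.assoc]
  congr 1
  exact e.hom.naturality_assoc τ _

/-- `ξ` is invertible when the base change maps are -/
theorem isIso_xi (adj : DCoh.RpushQ f hf ⊣ a) (adj' : DCoh.RpushQ f' hf' ⊣ a')
    (e : DCoh.RpushQ g' hg' ⋙ DCoh.RpushQ f hf ≅ DCoh.RpushQ f' hf' ⋙ DCoh.RpushQ g hg)
    (adjg : Dual3.LpullQ g hLg ⊣ DCoh.RpushQ g hg) (adjg' : Dual3.LpullQ g' hLg' ⊣ DCoh.RpushQ g' hg')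
    (h : ∀ K : DCoh.DQCoh X, IsIso (Dual3.bcPush e adjg adjg' K)) (M : DCoh.DQCoh Y') :
    IsIso (Dual3.xi adj adj' e M) := by
  refine isIso_of_yoneda_map_bijective _ fun T => ?_
  haveI := h T
  have hh : (fun t : T ⟶ (DCoh.RpushQ g' hg').obj (a'.obj M) => t ≫ Dual3.xi adj adj' e M) =
      (adj.homEquiv _ _) ∘ (adjg.homEquiv _ _) ∘ (fun s => Dual3.bcPush e adjg adjg' T ≫ s) ∘
        (adj'.homEquiv _ _).symm ∘ (adjg'.homEquiv _ _).symm := by
    funext t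
    exact comp_xi adj adj' e adjg adjg' M T t
  rw [hh]
  refine (Equiv.bijective _).comp ((Equiv.bijective _).comp (Function.Bijective.comp ?_
    ((Equiv.bijective _).comp (Equiv.bijective _))))
  exact ⟨fun x y hxy => (cancel_epi (Dual3.bcPush e adjg adjg' T)).1 hxy,
    fun s => ⟨inv (Dual3.bcPush e adjg adjg' T) ≫ s, by simp⟩⟩

/-- restriction of `Lg^* ⊣ Rg_*` to `D_QCoh` -/
noncomputable def adjQ (hg : DCoh.RpushPreservesQCoh g) (hLg : Dual3.LpullPreservesQCoh g)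
    (adj₀ : DCoh.Lpull g ⊣ DCoh.Rpush g) : Dual3.LpullQ g hLg ⊣ DCoh.RpushQ g hg :=
  adj₀.restrictFullyFaithful (ObjectProperty.fullyFaithfulι _) (ObjectProperty.fullyFaithfulι _)
    (Iso.refl _) (Iso.refl _)

/-- restriction of an isomorphism `Rf_* Rg'_* ≅ Rg_* Rf'_*` to `D_QCoh` -/
noncomputable def isoQ (hf : DCoh.RpushPreservesQCoh f) (hf' : DCoh.RpushPreservesQCoh f')
    (hg : DCoh.RpushPreservesQCoh g) (hg' : DCoh.RpushPreservesQCoh g')
    (e₀ : DCoh.Rpush g' ⋙ DCoh.Rpush f ≅ DCoh.Rpush f' ⋙ DCoh.Rpush g) :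
    DCoh.RpushQ g' hg' ⋙ DCoh.RpushQ f hf ≅ DCoh.RpushQ f' hf' ⋙ DCoh.RpushQ g hg :=
  NatIso.ofComponents (fun K => (ObjectProperty.fullyFaithfulι _).preimageIso (e₀.app K.obj))
    fun φ => (ObjectProperty.ι _).map_injective (by
      simpa using e₀.hom.naturality ((ObjectProperty.ι _).map φ))

lemma map_homEquiv_adjQ (adj₀ : DCoh.Lpull g ⊣ DCoh.Rpush g) {A : DCoh.DQCoh Y} {B : DCoh.DQCoh Y'}
    (φ : (Dual3.LpullQ g hLg).obj A ⟶ B) :
    ((adjQ hg hLg adj₀).homEquiv A B φ).hom = adj₀.homEquiv A.obj B.obj φ.hom := by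
  rw [Adjunction.homEquiv_unit, Adjunction.homEquiv_unit]
  show ((adjQ hg hLg adj₀).unit.app A).hom ≫ ((DCoh.RpushQ g hg).map φ).hom = _
  have := Adjunction.map_restrictFullyFaithful_unit_app adj₀ (ObjectProperty.fullyFaithfulι _)
    (ObjectProperty.fullyFaithfulι _) (L := Dual3.LpullQ g hLg) (R := DCoh.RpushQ g hg)
    (Iso.refl _) (Iso.refl _) A
  simp only [Iso.refl_hom, NatTrans.id_app] at this
  erw [Category.comp_id, CategoryTheory.Functor.map_id, Category.comp_id] at this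
  exact congrArg (· ≫ _) this

lemma map_unit_adjQ (adj₀ : DCoh.Lpull g ⊣ DCoh.Rpush g) (A : DCoh.DQCoh Y) :
    ((adjQ hg hLg adj₀).unit.app A).hom = adj₀.unit.app A.obj := by
  have := Adjunction.map_restrictFullyFaithful_unit_app adj₀ (ObjectProperty.fullyFaithfulι _)
    (ObjectProperty.fullyFaithfulι _) (L := Dual3.LpullQ g hLg) (R := DCoh.RpushQ g hg)
    (Iso.refl _) (Iso.refl _) A
  simp only [Iso.refl_hom, NatTrans.id_app] at this
  erw [Category.comp_id, CategoryTheory.Functor.map_id, Category.comp_id] at this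
  exact this

lemma isIso_bcPush (e₀ : DCoh.Rpush g' ⋙ DCoh.Rpush f ≅ DCoh.Rpush f' ⋙ DCoh.Rpush g)
    (adj₀ : DCoh.Lpull g ⊣ DCoh.Rpush g) (adj₀' : DCoh.Lpull g' ⊣ DCoh.Rpush g')
    (h : ∀ E : DCoh.D X, DCoh.IsQCohD E → IsIso (DCoh.baseChangeApp adj₀ adj₀' e₀ E)) (K : DCoh.DQCoh X) :
    IsIso (Dual3.bcPush (isoQ hf hf' hg hg' e₀) (adjQ hg hLg adj₀) (adjQ hg' hLg' adj₀') K) := by
  have h1 : (Dual3.bcPush (isoQ hf hf' hg hg' e₀) (adjQ hg hLg adj₀) (adjQ hg' hLg' adj₀') K).hom =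
      DCoh.baseChangeApp adj₀ adj₀' e₀ K.obj := by
    apply (adj₀.homEquiv _ _).injective
    refine (map_homEquiv_adjQ (hg := hg) (hLg := hLg) adj₀ _).symm.trans ?_
    rw [Dual3.bcPush, Equiv.apply_symm_apply, DCoh.baseChangeApp]
    erw [Equiv.apply_symm_apply]
    show (DCoh.Rpush f).map ((adjQ hg' hLg' adj₀').unit.app K).hom ≫
      ((isoQ hf hf' hg hg' e₀).hom.app _).hom = _
    rw [map_unit_adjQ]
    congr 1
  haveI := h K.obj K.property
  haveI : IsIso ((ObjectProperty.ι _).map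
      (Dual3.bcPush (isoQ hf hf' hg hg' e₀) (adjQ hg hLg adj₀) (adjQ hg' hLg' adj₀') K)) := by
    show IsIso (Dual3.bcPush (isoQ hf hf' hg hg' e₀) (adjQ hg hLg adj₀) (adjQ hg' hLg' adj₀') K).hom
    rw [h1]; infer_instance
  exact isIso_of_reflects_iso _ (ObjectProperty.ι _)

end Groth.Agent.Dual3XI

namespace Groth.Agent.Dual3XI

variable {X Y X' Y' : Scheme.{u}} {f : X ⟶ Y} {g : Y' ⟶ Y} {f' : X' ⟶ Y'} {g' : X' ⟶ X}

/-- the tor independence of a square with a flat leg -/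
lemma tor_of_flat [Flat f] (U : Y.Opens) (hU : IsAffineOpen U) (U' : Y'.Opens) (_ : IsAffineOpen U')
    (hU' : U' ≤ g ⁻¹ᵁ U) (V : X.Opens) (hV0 : IsAffineOpen V) (hV : V ≤ f ⁻¹ᵁ U) (i : ℕ) (hi : 0 < i) :
    Subsingleton (@DRing.Tor Γ(Y, U) _ i Γ(Y', U') Γ(X, V) _ (g.appLE U U' hU').hom.toModule _
      (f.appLE U V hV).hom.toModule) := by
  letI := (f.appLE U V hV).hom.toModule
  letI := (g.appLE U U' hU').hom.toModule
  haveI : Module.Flat Γ(Y, U) Γ(X, V) := f.flat_appLE hU hV0 hV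
  exact (Groth.Agent.S3527.result Γ(Y, U) Γ(X, V) Γ(Y', U') i hi).2

/-- base change on `D_QCoh` for a square with a flat leg -/
theorem exists_baseChange [CompactSpace X] [QuasiSeparatedSpace X] [QuasiSeparatedSpace Y]
    (hsq : IsPullback g' f' f g) (hflat : Flat f ∨ Flat g)
    [DCoh.HasRpush f] [DCoh.HasRpush f'] [DCoh.HasRpush g] [DCoh.HasRpush g'] [DCoh.HasLpull g]
    [DCoh.HasLpull g'] (adj₀ : DCoh.Lpull g ⊣ DCoh.Rpush g) (adj₀' : DCoh.Lpull g' ⊣ DCoh.Rpush g') :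
    ∃ e : DCoh.Rpush g' ⋙ DCoh.Rpush f ≅ DCoh.Rpush f' ⋙ DCoh.Rpush g,
      ∀ E : DCoh.D X, DCoh.IsQCohD E → IsIso (DCoh.baseChangeApp adj₀ adj₀' e E) := by
  rcases hflat with h | h
  · exact TorBC.exists_isIso_baseChangeApp_of_local hsq adj₀ adj₀' DCoh.IsQCohD (fun _ h => h)
      fun _ _ _ hL hLq _ _ l _ _ _ π _ _ _ _ _ jV jX jW jY _ _ _ _ _ _ _ _ _ _ _ _ HW wf wg' wg _ =>
        TorBC.exists_local_tor (fun U hU U' hU' hle V hV hle' i hi =>
          tor_of_flat U hU U' hU' hle V hV hle' i hi) hL hLq l π jV jX jW jY HW wf wg' wg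
  · exact FlatBCD.exists_isIso_baseChangeApp hsq adj₀ adj₀'

end Groth.Agent.Dual3XI
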